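import Mathlib
import Cfsg.Prelude.Def_Local
import Cfsg.Agent.Prune
set_option linter.all false
prune_inst 0x7f00000000000000000000000000000000000000000000000000000000000000000000000000000000000000000000000000000000000000000000000000000000000000000000000000000000000000003fffffffffffffffffffffffffffbeffbdffffffff
open scoped Cfsg.Agent.FastGrp

/-!
# S4307, Theorem N: what is known about the simple group of a minimal counterexample (helper506)

Theorem N: `C` acts on the elementary abelian `r`-group `W ≠ 1`, `r ≠ q`, and every `w ≠ 1` is fixed by a Sylow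
`q`-subgroup of `C` which is central in `C_C(w)`; then `C` is `q`-solvable. In a minimal counterexample `q` and `r` are
odd and `T = C / Z(C)` is simple of order divisible by `q`, and `NCtx q T` holds: the elements of `T` which have a
preimage with a non-trivial fixed vector are `Nice`.

The rows: `NRow q T := ¬ NCtx q T`.
-/

set_option autoImplicit false

namespace Cfsg.Agent.H506.NRow

open Subgroup

/-- `x` commutes with a Sylow `q`-subgroup `Q` of `T` which centralises every `Q`-invariant `f`-subgroup of `C_T(x)`,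
for all primes `f ≠ q` with `q ∤ f - 1`, and `C_T(x)` is `q`-solvable. -/
def Nice (q : ℕ) {T : Type*} [Group T] (x : T) : Prop :=
  Cfsg.IsPSolvable q ↥(centralizer ({x} : Set T)) ∧
  ∃ Q : Sylow q T, (∀ y ∈ Q, y * x = x * y) ∧
    ∀ f : ℕ, f.Prime → f ≠ q → ¬ q ∣ f - 1 → ∀ M : Subgroup T, IsPGroup f M → M ≤ centralizer ({x} : Set T) →
      (∀ y ∈ Q, y ∈ normalizer (M : Set T)) → ∀ y ∈ Q, ∀ m ∈ M, y * m = m * y

/-- The information on `T = C / Z(C)`. `q` is an odd prime dividing `|T|`. -/
structure NCtx (q : ℕ) (T : Type*) [Group T] : Prop where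
  prime : q.Prime
  odd : q ≠ 2
  dvd : q ∣ Nat.card T
  /-- the Sylow `q`-subgroups are abelian -/
  ab : ∀ Q : Sylow q T, ∀ x ∈ Q, ∀ y ∈ Q, x * y = y * x
  /-- every noncyclic `f`-subgroup, `f` odd, contains a nice element of order `f` (also for `f = q`) -/
  noncyc : ∀ f : ℕ, f.Prime → f ≠ 2 → ∀ M : Subgroup T, IsPGroup f M → ¬ IsCyclic M →
    ∃ x ∈ M, orderOf x = f ∧ Nice q x
  /-- some involution is nice (this holds except perhaps for `T ≅ L₂(F)`, `|F|` odd, and `T ≅ A₇`) -/
  inv : ∃ x : T, orderOf x = 2 ∧ Nice q x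

/-- Reduced form for `L₂(F)`, `|F|` odd, not a prime, and for other cases where `inv` is not used. -/
structure NCtx' (q : ℕ) (T : Type*) [Group T] : Prop where
  prime : q.Prime
  odd : q ≠ 2
  dvd : q ∣ Nat.card T
  ab : ∀ Q : Sylow q T, ∀ x ∈ Q, ∀ y ∈ Q, x * y = y * x
  noncyc : ∀ f : ℕ, f.Prime → f ≠ 2 → ∀ M : Subgroup T, IsPGroup f M → ¬ IsCyclic M →
    ∃ x ∈ M, orderOf x = f ∧ Nice q x

theorem NCtx.weak {q : ℕ} {T : Type*} [Group T] (h : NCtx q T) : NCtx' q T :=
  ⟨h.prime, h.odd, h.dvd, h.ab, h.noncyc⟩

section congr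

universe u v

variable {q : ℕ} {T : Type u} {U : Type v} [Group T] [Group U]

theorem map_centralizer (e : T ≃* U) (x : T) :
    (centralizer ({x} : Set T)).map e.toMonoidHom = centralizer ({e x} : Set U) := by
  ext z
  rw [mem_map_equiv, mem_centralizer_singleton_iff, mem_centralizer_singleton_iff]
  constructor
  · intro h
    have := congrArg e h
    simpa using this
  · intro h
    apply e.injective
    simpa using h

end congr

end Cfsg.Agent.H506.NRow
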